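import Mathlib
import Cfsg.Agent.H546.FaPSp
import Cfsg.Agent.TitsThree.KInstSp
import Cfsg.Agent.Nodes.WittU
import Cfsg.Agent.Nodes.WittAll
import Cfsg.Agent.Prune
set_option linter.all false
prune_inst 0x7f00000000000000000000000000000000000000000000000000000000000000000000000000000000000000000000000000000000000000000000000000000000000000000000000000000000000000003fffffffffffffffffffffffffffbeffbdffffffff
open scoped Cfsg.Agent.FastGrp

/-!
# S4981, defining characteristic, symplectic groups: the data (helper332)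

* `sm m σ` : the semilinear bijection of the symplectic space given by the field automorphism `σ`; it preserves the form
  up to `σ` and fixes the frame;
* `fld_toPSp` : it induces `PSP.fld m σ` on `PSp m F`;
* `tor_comm` : the torus is abelian.
-/

set_option autoImplicit false

namespace Cfsg.Agent.H332.PQ.Psp

open Cfsg Cfsg.Agent.ClassicalGeometry.SympBasic Cfsg.Agent.ClassicalGeometry.SympAutSemi
  Cfsg.Agent.ClassicalGeometry.SympGamma Cfsg.Agent.H254
open Cfsg.Agent.TitsThree.Siegel Cfsg.Agent.TitsThree.SpIdent Cfsg.Agent.TitsThree.WittFrame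
open Cfsg.Agent.Nodes.WittRoot Cfsg.Agent.Nodes.WittRGD

variable {m : ℕ} {F : Type*} [Field F]

/-- the semilinear bijection acting on the coordinates -/
def sm (m : ℕ) (σ : F ≃+* F) : (Fin m ⊕ Fin m → F) ≃+ (Fin m ⊕ Fin m → F) where
  toFun v := fun i => σ (v i)
  invFun v := fun i => σ.symm (v i)
  left_inv v := by funext i; simp
  right_inv v := by funext i; simp
  map_add' v w := by funext i; simp

theorem sm_apply (σ : F ≃+* F) (v : Fin m ⊕ Fin m → F) (i : Fin m ⊕ Fin m) : sm m σ v i = σ (v i) := rfl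

theorem sm_smul (σ : F ≃+* F) (a : F) (v : Fin m ⊕ Fin m → F) : sm m σ (a • v) = σ a • sm m σ v := by
  funext i
  simp [sm_apply]

theorem sm_form (σ : F ≃+* F) (v w : Fin m ⊕ Fin m → F) :
    (form m F).h (sm m σ v) (sm m σ w) = σ ((form m F).h v w) := by
  have h := (isSemi_frobPerm (m := m) σ).2.2 v w
  rw [one_mul] at h
  exact h

theorem sm_single (σ : F ≃+* F) (i : Fin m ⊕ Fin m) : sm m σ (Pi.single i 1) = Pi.single i 1 := by
  funext j
  rw [sm_apply]
  by_cases h : j = i
  · subst h; simp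
  · rw [Pi.single_eq_of_ne h, map_zero]

theorem sm_b (σ : F ≃+* F) (x : Fin m × Bool) : sm m σ ((frame m F).b x) = (frame m F).b x := by
  obtain ⟨i, s⟩ := x
  cases s
  · exact sm_single σ _
  · exact sm_single σ _

theorem sm_ok (σ : F ≃+* F) {w : Fin m ⊕ Fin m → F} {c : F} (h : (frame m F).ok w c) :
    (frame m F).ok (sm m σ w) (σ c) := by
  rw [frame_ok] at h ⊢
  rw [h, map_zero]

/-- the action on `PSp m F` -/
theorem fld_toPSp (σ : F ≃+* F) {g g' : isos (form m F)} (h : ∀ v, g'.1 (sm m σ v) = sm m σ (g.1 v)) :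
    PSP.fld m σ (toPSp g) = toPSp g' := by
  have h1 : conjHom m F (PSP.frobSS m σ) (toSp g) = toSp g' := by
    apply rho_injective
    rw [rho_conjHom]
    ext1 v
    obtain ⟨w, rfl⟩ := (sm m σ).surjective v
    have e1 : rho m F (toSp g') (sm m σ w) = g'.1 (sm m σ w) := toSp_mulVec g' _
    have e2 : (PSP.frobSS m σ).1⁻¹ (sm m σ w) = w := by
      rw [Equiv.Perm.inv_eq_iff_eq]
      rfl
    rw [e1, h, Equiv.Perm.mul_apply, Equiv.Perm.mul_apply, e2]
    have e3 : rho m F (toSp g) w = g.1 w := toSp_mulVec g w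
    rw [e3]
    rfl
  show Psi m F (PSP.frobSS m σ) (QuotientGroup.mk (toSp g)) = QuotientGroup.mk (toSp g')
  rw [Psi_mk, h1]

/-- the elements of the torus commute -/
theorem tor_comm {t t' : (Fin m ⊕ Fin m → F) ≃ₗ[F] (Fin m ⊕ Fin m → F)}
    (ht : t ∈ Tor (frame m F) (isos (form m F))) (ht' : t' ∈ Tor (frame m F) (isos (form m F))) :
    t * t' = t' * t := by
  apply LinearEquiv.toLinearMap_injective
  refine LinearMap.ext_on (s := Set.range (frame m F).b) ?_ ?_
  · rw [eq_top_iff, ← span_ef (m := m) (F := F), Submodule.span_le]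
    rintro _ (⟨i, rfl⟩ | ⟨i, rfl⟩)
    · exact Submodule.subset_span ⟨(i, true), rfl⟩
    · exact Submodule.subset_span ⟨(i, false), rfl⟩
  · rintro _ ⟨x, rfl⟩
    obtain ⟨l, -, hl⟩ := ht.2 x
    obtain ⟨l', -, hl'⟩ := ht'.2 x
    have e : t ((frame m F).b x) = l • (frame m F).b x := hl
    have e' : t' ((frame m F).b x) = l' • (frame m F).b x := hl'
    show t (t' ((frame m F).b x)) = t' (t ((frame m F).b x))
    rw [e, e', map_smul, map_smul, e, e', smul_smul, smul_smul, mul_comm]

end Cfsg.Agent.H332.PQ.Psp
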